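import Mathlib

set_option autoImplicit false
set_option backward.isDefEq.respectTransparency false
set_option backward.defeqAttrib.useBackward true
set_option linter.style.haveILetI false

/-!
# Closed points of the generic fibre above a closed point of the special fibre, valuation base

Noether normalisation of the special fibre, Zariski's main theorem and going down over the normal
ring `V[T]`.
-/

universe u

open MvPolynomial

namespace Groth.Agent.ClosedBetween

theorem isIntegrallyClosed_mvPolynomial (R : Type u) [CommRing R] [IsDomain R]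
    [IsIntegrallyClosed R] : ∀ n : ℕ, IsIntegrallyClosed (MvPolynomial (Fin n) R)
  | 0 => IsIntegrallyClosed.of_equiv (MvPolynomial.isEmptyRingEquiv R (Fin 0)).symm
  | n + 1 => by
    haveI := isIntegrallyClosed_mvPolynomial R n
    exact IsIntegrallyClosed.of_equiv (MvPolynomial.finSuccEquiv R n).symm.toRingEquiv

/-- Substituting monic polynomials of positive degree in the variables is injective. -/
theorem injective_aeval_monic {k : Type u} [Field k] {e : ℕ} (g : Fin e → Polynomial k)
    (hg : ∀ i, (g i).natDegree ≠ 0) :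
    Function.Injective (MvPolynomial.aeval (R := k)
      fun i => Polynomial.aeval (MvPolynomial.X i : MvPolynomial (Fin e) k) (g i)) := by
  have h := (MvPolynomial.algebraicIndependent_X (Fin e) k).polynomial_aeval_of_transcendental
    (f := g) fun i => ?_
  · exact h
  · apply Polynomial.transcendental
    intro hmem
    exact hg i hmem
    exact mem_nonZeroDivisors_of_ne_zero (Polynomial.leadingCoeff_ne_zero.mpr
      fun h0 => hg i (by rw [h0, Polynomial.natDegree_zero]))

theorem exists_prime_between {V B : Type u} [CommRing V] [IsDomain V] [ValuationRing V]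
    [CommRing B] [IsDomain B] [Algebra V B] [Algebra.FiniteType V B]
    (hinj : Function.Injective (algebraMap V B)) (hV : ¬ IsField V) (Q : Ideal B) [Q.IsMaximal]
    (hQ : Q.comap (algebraMap V B) = IsLocalRing.maximalIdeal V) (b : B) (hb : b ≠ 0) :
    ∃ (P : Ideal B) (_ : P.IsPrime), P ≤ Q ∧ P.comap (algebraMap V B) = ⊥ ∧ b ∉ P ∧
      ∀ R : Ideal B, R.IsPrime → P ≤ R → R.comap (algebraMap V B) = ⊥ → R = P := by
  classical
  set m := IsLocalRing.maximalIdeal V with hm
  set k := V ⧸ m
  letI : Field k := Ideal.Quotient.field m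
  set mB := m.map (algebraMap V B) with hmB
  set Bb := B ⧸ mB
  have hmBQ : mB ≤ Q := Ideal.map_le_iff_le_comap.mpr hQ.ge
  haveI : Nontrivial Bb := Ideal.Quotient.nontrivial_iff.mpr fun h =>
    Ideal.IsMaximal.ne_top ‹_› (top_le_iff.mp (h ▸ hmBQ))
  haveI : Algebra.FiniteType V Bb :=
    Algebra.FiniteType.trans (S := B) inferInstance inferInstance
  haveI : Algebra.FiniteType k Bb := Algebra.FiniteType.of_restrictScalars_finiteType V k Bb
  obtain ⟨e, γ, hγ, hγf⟩ := exists_finite_inj_algHom_of_fg k Bb
  -- move the point to the origin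
  set Qb : Ideal Bb := Q.map (Ideal.Quotient.mk mB)
  haveI : Qb.IsMaximal := by
    refine (Ideal.map_eq_top_or_isMaximal_of_surjective _ Ideal.Quotient.mk_surjective
      ‹Q.IsMaximal›).resolve_left fun h => ?_
    have := congrArg (Ideal.comap (Ideal.Quotient.mk mB)) h
    rw [Ideal.comap_map_of_surjective _ Ideal.Quotient.mk_surjective, Ideal.comap_top,
      ← RingHom.ker_eq_comap_bot, Ideal.mk_ker, sup_eq_left.mpr hmBQ] at this
    exact Ideal.IsMaximal.ne_top ‹_› this
  letI : Field (Bb ⧸ Qb) := Ideal.Quotient.field Qb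
  haveI : Module.Finite k (Bb ⧸ Qb) := finite_of_finite_type_of_isJacobsonRing k (Bb ⧸ Qb)
  set g : Fin e → Polynomial k :=
    fun i => minpoly k (Ideal.Quotient.mk Qb (γ (MvPolynomial.X i))) with hgdef
  have hgint : ∀ i, IsIntegral k (Ideal.Quotient.mk Qb (γ (MvPolynomial.X i))) :=
    fun i => Algebra.IsIntegral.isIntegral _
  set σ : MvPolynomial (Fin e) k →ₐ[k] MvPolynomial (Fin e) k :=
    MvPolynomial.aeval fun i => Polynomial.aeval (MvPolynomial.X i) (g i) with hσ
  have hσinj : Function.Injective σ :=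
    injective_aeval_monic g fun i => (minpoly.natDegree_pos (hgint i)).ne'
  set γ' := γ.comp σ with hγ'
  have hγ'inj : Function.Injective γ' := hγ.comp hσinj
  have hγ'fin : γ'.Finite := by
    letI := γ'.toRingHom.toAlgebra
    haveI : IsScalarTower k (MvPolynomial (Fin e) k) Bb :=
      IsScalarTower.of_algebraMap_eq fun x => (γ'.commutes x).symm
    set S' := integralClosure (MvPolynomial (Fin e) k) Bb
    have hgen : ∀ G, γ G ∈ S' := by
      intro G
      induction G using MvPolynomial.induction_on with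
      | C r =>
        rw [← MvPolynomial.algebraMap_eq, AlgHom.commutes,
          IsScalarTower.algebraMap_apply k (MvPolynomial (Fin e) k) Bb]
        exact S'.algebraMap_mem _
      | add p q hp hq => rw [map_add]; exact add_mem hp hq
      | mul_X p i hp =>
        rw [map_mul]
        refine mul_mem hp ⟨(g i).map (MvPolynomial.C) - Polynomial.C (MvPolynomial.X i), ?_, ?_⟩
        · refine ((minpoly.monic (hgint i)).map _).sub_of_left
            (lt_of_le_of_lt Polynomial.degree_C_le ?_)
          rw [Polynomial.degree_map]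
          exact minpoly.degree_pos (hgint i)
        · rw [Polynomial.eval₂_sub, Polynomial.eval₂_C, Polynomial.eval₂_map, sub_eq_zero]
          show _ = γ (σ (MvPolynomial.X i))
          rw [hσ, MvPolynomial.aeval_X, ← Polynomial.aeval_algHom_apply, Polynomial.aeval_def]
          congr 1
          exact RingHom.ext fun x => γ'.commutes x
    haveI : Algebra.IsIntegral (MvPolynomial (Fin e) k) Bb := by
      refine ⟨fun y => ?_⟩
      obtain ⟨p, hpm, hp⟩ := RingHom.IsIntegral.of_finite hγf y
      refine isIntegral_trans (A := S') y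
        ⟨p.map (γ.toRingHom.codRestrict S'.toSubring hgen), hpm.map _, ?_⟩
      rw [Polynomial.eval₂_map]
      exact hp
    haveI : Algebra.FiniteType (MvPolynomial (Fin e) k) Bb :=
      Algebra.FiniteType.of_restrictScalars_finiteType k _ _
    exact (RingHom.finite_algebraMap).mpr Algebra.IsIntegral.finite
  have hγ'Q : ∀ i, γ' (MvPolynomial.X i) ∈ Qb := fun i => by
    rw [← Ideal.Quotient.eq_zero_iff_mem, hγ', AlgHom.comp_apply, hσ, MvPolynomial.aeval_X,
      ← Polynomial.aeval_algHom_apply]
    exact (Polynomial.aeval_algHom_apply (Ideal.Quotient.mkₐ k Qb) _ _).symm.trans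
      (minpoly.aeval k _)
  choose t ht using fun i => Ideal.Quotient.mk_surjective (γ' (MvPolynomial.X i))
  have htQ : ∀ i, t i ∈ Q := fun i => by
    have h := hγ'Q i
    rw [← ht i] at h
    have := Ideal.mem_comap.mpr h
    rwa [Ideal.comap_map_of_surjective _ Ideal.Quotient.mk_surjective,
      ← RingHom.ker_eq_comap_bot, Ideal.mk_ker, sup_eq_left.mpr hmBQ] at this
  -- the map `V[T] → B`
  set φ : MvPolynomial (Fin e) V →ₐ[V] B := MvPolynomial.aeval t with hφ
  have hred : ∀ G, Ideal.Quotient.mk mB (φ G) = γ' (MvPolynomial.map (Ideal.Quotient.mk m) G) := by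
    intro G
    induction G using MvPolynomial.induction_on with
    | C r =>
      rw [MvPolynomial.map_C, hφ, MvPolynomial.aeval_C, ← MvPolynomial.algebraMap_eq,
        AlgHom.commutes]
      rfl
    | add p q hp hq => simp [hp, hq]
    | mul_X p i hp => simp only [map_mul, hp, MvPolynomial.map_X]; rw [hφ, MvPolynomial.aeval_X, ht]
  have hφinj : Function.Injective φ := by
    rw [injective_iff_map_eq_zero]
    intro G hG
    by_contra hG0
    -- divide by the content
    obtain ⟨d, hd, hmax⟩ : ∃ d ∈ G.support, ∀ d' ∈ G.support, G.coeff d ∣ G.coeff d' := by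
      have key : ∀ (st : Finset (Fin e →₀ ℕ)), st.Nonempty →
          ∃ d ∈ st, ∀ d' ∈ st, G.coeff d ∣ G.coeff d' := by
        intro st hne
        induction hne using Finset.Nonempty.cons_induction with
        | singleton a => exact ⟨a, by simp, fun d' hd' => by simp_all⟩
        | cons a s ha hs ih =>
          obtain ⟨d, hd, hmax⟩ := ih
          rcases ValuationRing.dvd_total (G.coeff a) (G.coeff d) with h | h
          · exact ⟨a, by simp, fun d' hd' => by
              rcases Finset.mem_cons.mp hd' with rfl | hd'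
              · exact dvd_rfl
              · exact h.trans (hmax d' hd')⟩
          · exact ⟨d, Finset.mem_cons_of_mem hd, fun d' hd' => by
              rcases Finset.mem_cons.mp hd' with rfl | hd'
              · exact h
              · exact hmax d' hd'⟩
      exact key _ (MvPolynomial.support_nonempty.mpr hG0)
    have hcd : G.coeff d ≠ 0 := MvPolynomial.mem_support_iff.mp hd
    have hdvd : MvPolynomial.C (G.coeff d) ∣ G := by
      rw [MvPolynomial.C_dvd_iff_dvd_coeff]
      intro d'
      by_cases hd' : d' ∈ G.support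
      · exact hmax d' hd'
      · rw [MvPolynomial.notMem_support_iff.mp hd']; exact dvd_zero _
    obtain ⟨G0, hG0'⟩ := hdvd
    have h1 : φ G0 = 0 := by
      rw [hG0', map_mul, hφ, MvPolynomial.aeval_C] at hG
      exact (mul_eq_zero.mp hG).resolve_left fun h => hcd (hinj (h.trans (map_zero _).symm))
    have h2 := hred G0
    rw [h1, map_zero] at h2
    have h3 := congrArg (MvPolynomial.coeff d) ((map_eq_zero_iff _ hγ'inj).mp h2.symm)
    rw [MvPolynomial.coeff_map, MvPolynomial.coeff_zero, Ideal.Quotient.eq_zero_iff_mem] at h3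
    have h4 : G.coeff d = G.coeff d * G0.coeff d := by
      conv_lhs => rw [hG0', MvPolynomial.coeff_C_mul]
    rw [mul_eq_left₀ (M₀ := V) hcd |>.mp h4.symm] at h3
    exact (IsLocalRing.maximalIdeal.isMaximal V).ne_top ((Ideal.eq_top_iff_one _).mpr h3)
  set R := MvPolynomial (Fin e) V
  letI : Algebra R B := φ.toRingHom.toAlgebra
  haveI : IsScalarTower V R B := IsScalarTower.of_algebraMap_eq fun x => (φ.commutes x).symm
  haveI : FaithfulSMul R B := (faithfulSMul_iff_algebraMap_injective R B).mpr hφinj
  haveI : Algebra.FiniteType R B := Algebra.FiniteType.of_restrictScalars_finiteType V R B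
  haveI : IsIntegrallyClosed V := inferInstance
  haveI : IsIntegrallyClosed R := isIntegrallyClosed_mvPolynomial V e
  set M := Q.comap (algebraMap R B) with hMdef
  have hM : ∀ G : R, G ∈ M ↔ MvPolynomial.constantCoeff G ∈ m := by
    intro G
    have h1 : G - MvPolynomial.C (MvPolynomial.constantCoeff G) ∈ M := by
      induction G using MvPolynomial.induction_on with
      | C r => simp
      | add p q hp hq =>
        simpa [add_sub_add_comm] using add_mem hp hq
      | mul_X p i hp =>
        have hX : (MvPolynomial.X i : R) ∈ M := by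
          show φ (MvPolynomial.X i) ∈ Q
          rw [hφ, MvPolynomial.aeval_X]; exact htQ i
        simpa using Ideal.mul_mem_left M p hX
    have h2 : MvPolynomial.C (MvPolynomial.constantCoeff G) ∈ M ↔
        MvPolynomial.constantCoeff G ∈ m := by
      rw [hMdef, Ideal.mem_comap, ← MvPolynomial.algebraMap_eq, ← IsScalarTower.algebraMap_apply]
      rw [← hQ]
      rfl
    rw [← h2]
    exact ⟨fun h => by simpa using sub_mem h h1, fun h => by simpa using add_mem h1 h⟩
  -- quasi-finite at `Q`
  haveI : Algebra.QuasiFiniteAt R Q := by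
    haveI hQp : Q.IsPrime := inferInstance
    set q : PrimeSpectrum B := ⟨Q, hQp⟩
    refine Algebra.QuasiFiniteAt.of_isOpen_singleton_fiber q ?_
    letI := γ'.toRingHom.toAlgebra
    haveI : Module.Finite (MvPolynomial (Fin e) k) Bb := hγ'fin
    set Tk : Ideal (MvPolynomial (Fin e) k) := RingHom.ker MvPolynomial.constantCoeff
    haveI hTk : Tk.IsMaximal := RingHom.ker_isMaximal_of_surjective _
      fun x => ⟨MvPolynomial.C x, MvPolynomial.constantCoeff_C _ x⟩
    set Fib := (PrimeSpectrum.comap (algebraMap R B) ⁻¹' {q.comap (algebraMap R B)})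
    -- every point of the fibre comes from a prime of `Bb` over the origin
    have hmem : ∀ x ∈ Fib, mB ≤ x.asIdeal ∧
        (x.asIdeal.map (Ideal.Quotient.mk mB)).comap (algebraMap (MvPolynomial (Fin e) k) Bb) =
          Tk := by
      intro x hx
      have hx' : x.asIdeal.comap (algebraMap R B) = M := congrArg PrimeSpectrum.asIdeal hx
      have hmx : mB ≤ x.asIdeal := Ideal.map_le_iff_le_comap.mpr fun v hv => by
        rw [Ideal.mem_comap, IsScalarTower.algebraMap_apply V R B, ← Ideal.mem_comap, hx', hM]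
        show MvPolynomial.constantCoeff (MvPolynomial.C v : R) ∈ m
        rwa [MvPolynomial.constantCoeff_C]
      refine ⟨hmx, ?_⟩
      refine (hTk.eq_of_le ?_ ?_).symm
      · refine (Ideal.IsPrime.comap (K := x.asIdeal.map (Ideal.Quotient.mk mB)) _
          (hK := Ideal.map_isPrime_of_surjective Ideal.Quotient.mk_surjective
            (by rwa [Ideal.mk_ker]))).ne_top
      · intro G hG
        obtain ⟨G', rfl⟩ := MvPolynomial.map_surjective _ Ideal.Quotient.mk_surjective G
        rw [RingHom.mem_ker, MvPolynomial.constantCoeff_map, Ideal.Quotient.eq_zero_iff_mem,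
          ← hM, ← hx'] at hG
        rw [Ideal.mem_comap]
        show γ' (MvPolynomial.map (Ideal.Quotient.mk m) G') ∈ _
        rw [← hred]
        exact Ideal.mem_map_of_mem _ hG
    have hfin : Fib.Finite := by
      haveI : Algebra.QuasiFinite (MvPolynomial (Fin e) k) Bb := inferInstance
      have hf := Algebra.QuasiFinite.finite_primesOver (S := Bb) Tk
      refine Set.Finite.of_finite_image (f := fun x : PrimeSpectrum B =>
        x.asIdeal.map (Ideal.Quotient.mk mB)) (hf.subset ?_) fun x hx y hy h => ?_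
      · rintro _ ⟨x, hx, rfl⟩
        exact ⟨Ideal.map_isPrime_of_surjective Ideal.Quotient.mk_surjective
          (by rw [Ideal.mk_ker]; exact (hmem x hx).1), ⟨(hmem x hx).2.symm⟩⟩
      · refine PrimeSpectrum.ext ?_
        have := congrArg (Ideal.comap (Ideal.Quotient.mk mB)) h
        rwa [Ideal.comap_map_of_surjective _ Ideal.Quotient.mk_surjective,
          Ideal.comap_map_of_surjective _ Ideal.Quotient.mk_surjective,
          ← RingHom.ker_eq_comap_bot, Ideal.mk_ker, sup_eq_left.mpr (hmem x hx).1,
          sup_eq_left.mpr (hmem y hy).1] at this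
    haveI : Finite Fib := hfin.to_subtype
    haveI : T1Space Fib := by
      refine ⟨fun ⟨x, hx⟩ => ?_⟩
      haveI := Ideal.map_isPrime_of_surjective (I := x.asIdeal) (f := Ideal.Quotient.mk mB)
        Ideal.Quotient.mk_surjective (by rw [Ideal.mk_ker]; exact (hmem x hx).1)
      haveI hmx : (x.asIdeal.map (Ideal.Quotient.mk mB)).IsMaximal :=
        Ideal.isMaximal_of_isIntegral_of_isMaximal_comap _ ((hmem x hx).2.symm ▸ hTk)
      have hxmax : x.asIdeal.IsMaximal := by
        have := Ideal.comap_isMaximal_of_surjective (Ideal.Quotient.mk mB)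
          Ideal.Quotient.mk_surjective (H := hmx)
        rwa [Ideal.comap_map_of_surjective _ Ideal.Quotient.mk_surjective,
          ← RingHom.ker_eq_comap_bot, Ideal.mk_ker, sup_eq_left.mpr (hmem x hx).1] at this
      refine isClosed_induced_iff.mpr ⟨{x}, (PrimeSpectrum.isClosed_singleton_iff_isMaximal x).mpr
        hxmax, ?_⟩
      ext y
      simp [Subtype.ext_iff]
    exact isOpen_discrete _
  -- Zariski's main theorem
  obtain ⟨r, hrQ, hr, hrx⟩ := Algebra.zariskisMainProperty_iff.mp
    (Algebra.ZariskisMainProperty.of_finiteType (R := R) Q)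
  have hr0 : r ≠ 0 := fun h => hrQ (h ▸ Q.zero_mem)
  obtain ⟨mb, hmb⟩ := hrx b
  set C := integralClosure R B
  set b' : C := ⟨r ^ mb * b, hmb⟩
  have hb' : b' ≠ 0 := fun h => mul_ne_zero (pow_ne_zero _ hr0) hb (congrArg Subtype.val h)
  have hFex : (Ideal.span {b'}).comap (algebraMap R C) ≠ ⊥ :=
    Ideal.comap_ne_bot_of_integral_mem hb' (Ideal.subset_span rfl) (Algebra.IsIntegral.isIntegral b')
  obtain ⟨F, hFmem, hF0⟩ := Submodule.exists_mem_ne_zero_of_ne_bot hFex
  -- a section avoiding `F`
  obtain ⟨a, ha, ha0⟩ : ∃ a ∈ m, a ≠ 0 :=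
    Submodule.exists_mem_ne_zero_of_ne_bot fun h => hV (IsLocalRing.isField_iff_maximalIdeal_eq.mpr h)
  obtain ⟨c, hcm, hFc⟩ : ∃ c : Fin e → V, (∀ i, c i ∈ m) ∧ MvPolynomial.eval c F ≠ 0 := by
    by_contra hcon
    push Not at hcon
    haveI : Infinite V := not_finite_iff_infinite.mp fun hfV => hV (Finite.isField_of_domain V)
    refine hF0 (MvPolynomial.funext_set (fun _ : Fin e => (m : Set V)) (fun _ => ?_) fun x hx => ?_)
    · exact Set.infinite_of_injective_forall_mem (f := fun v : V => a * v)
        (mul_right_injective₀ ha0) fun v => m.mul_mem_right v ha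
    · rw [map_zero]; exact hcon x fun i => hx i (Set.mem_univ i)
  set PT : Ideal R := RingHom.ker (MvPolynomial.eval c) with hPT
  have hPTM : PT ≤ M := by
    have h1 : ∀ G : R, Ideal.Quotient.mk m (MvPolynomial.eval c G) =
        Ideal.Quotient.mk m (MvPolynomial.constantCoeff G) := by
      intro G
      induction G using MvPolynomial.induction_on with
      | C r => simp
      | add p q hp hq => simp only [map_add, hp, hq]
      | mul_X p i hp => simp [Ideal.Quotient.eq_zero_iff_mem.mpr (hcm i)]
    intro G hG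
    rw [hM, ← Ideal.Quotient.eq_zero_iff_mem, ← h1, RingHom.mem_ker.mp hG, map_zero]
  haveI : PT.IsPrime := RingHom.ker_isPrime _
  haveI : FaithfulSMul R C := (faithfulSMul_iff_algebraMap_injective R C).mpr fun x y h =>
    hφinj (congrArg Subtype.val h)
  set Qc : Ideal C := Q.comap C.val.toRingHom
  haveI : Qc.LiesOver M := ⟨rfl⟩
  obtain ⟨Pc, hPcQ, hPcp, hPcT⟩ := Ideal.exists_ideal_le_liesOver_of_le (R := R) (S := C) Qc hPTM
  haveI := hPcp
  set rc : C := ⟨r, hr⟩
  have hrP : rc ∉ Pc := fun h => hrQ (hPcQ h)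
  have hPcinter : Pc.comap (algebraMap R C) = PT := hPcT.over.symm
  -- the prime of `B`
  let P : Ideal B :=
    { carrier := {x | ∃ (n : ℕ) (y : C), (y : B) = r ^ n * x ∧ y ∈ Pc}
      zero_mem' := ⟨0, 0, by simp, zero_mem _⟩
      add_mem' := fun {x x'} hx hx' => by
        obtain ⟨n, y, hy, hyP⟩ := hx
        obtain ⟨n', y', hy', hyP'⟩ := hx'
        refine ⟨n + n', rc ^ n' * y + rc ^ n * y', ?_,
          add_mem (Ideal.mul_mem_left _ _ hyP) (Ideal.mul_mem_left _ _ hyP')⟩
        simp [hy, hy', rc, pow_add]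
        ring
      smul_mem' := fun z x hx => by
        obtain ⟨n, y, hy, hyP⟩ := hx
        obtain ⟨n', hn'⟩ := hrx z
        refine ⟨n' + n, ⟨r ^ n' * z, hn'⟩ * y, ?_, Ideal.mul_mem_left _ _ hyP⟩
        simp [hy, pow_add]
        ring }
  have hPC : ∀ y : C, (y : B) ∈ P ↔ y ∈ Pc := fun y => by
    refine ⟨fun ⟨n, z, hz, hzP⟩ => ?_, fun h => ⟨0, y, by simp, h⟩⟩
    have : z = rc ^ n * y := Subtype.ext (by simpa [rc] using hz)
    exact (Ideal.IsPrime.mem_or_mem hPcp (this ▸ hzP)).resolve_left
      fun h => hrP (Ideal.IsPrime.mem_of_pow_mem hPcp n h)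
  have hPV : P.comap (algebraMap V B) = ⊥ := by
    rw [eq_bot_iff]
    intro v hv
    rw [Ideal.mem_comap, IsScalarTower.algebraMap_apply V C B] at hv
    have h' : algebraMap V C v ∈ Pc := (hPC _).mp hv
    rw [IsScalarTower.algebraMap_apply V R C, ← Ideal.mem_comap, hPcinter, RingHom.mem_ker,
      MvPolynomial.algebraMap_eq, MvPolynomial.eval_C] at h'
    exact h'
  have hPQ : P ≤ Q := fun x ⟨n, y, hy, hyP⟩ => by
    have h' : (y : B) ∈ Q := hPcQ hyP
    rw [hy] at h'
    exact (Ideal.IsPrime.mem_or_mem inferInstance h').resolve_left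
      fun h => hrQ (Ideal.IsPrime.mem_of_pow_mem inferInstance n h)
  have hPprime : P.IsPrime := by
    refine ⟨fun h => Ideal.IsMaximal.ne_top ‹Q.IsMaximal› (top_le_iff.mp (h ▸ hPQ)),
      fun {x x'} h => ?_⟩
    obtain ⟨n, y, hy, hyP⟩ := h
    obtain ⟨k₁, hk₁⟩ := hrx x
    obtain ⟨k₂, hk₂⟩ := hrx x'
    have : (⟨r ^ k₁ * x, hk₁⟩ : C) * ⟨r ^ k₂ * x', hk₂⟩ * rc ^ n = rc ^ (k₁ + k₂) * y :=
      Subtype.ext (by simp [hy, rc, pow_add]; ring)
    have h' := Ideal.mul_mem_left Pc (rc ^ (k₁ + k₂)) hyP
    rw [← this] at h'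
    rcases Ideal.IsPrime.mem_or_mem hPcp h' with h' | h'
    · rcases Ideal.IsPrime.mem_or_mem hPcp h' with h' | h'
      exacts [Or.inl ⟨k₁, _, rfl, h'⟩, Or.inr ⟨k₂, _, rfl, h'⟩]
    · exact absurd (Ideal.IsPrime.mem_of_pow_mem hPcp n h') hrP
  refine ⟨P, hPprime, hPQ, hPV, fun hbP => hFc ?_, fun S hS hPS hSV => ?_⟩
  · have h1 : b' ∈ Pc := (hPC b').mp (P.mul_mem_left _ hbP)
    have h2 : F ∈ Pc.comap (algebraMap R C) :=
      Ideal.comap_mono ((Ideal.span_singleton_le_iff_mem _).mpr h1) hFmem
    rwa [hPcinter, RingHom.mem_ker] at h2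
  · set Sc : Ideal C := S.comap C.val.toRingHom
    haveI : Sc.IsPrime := Ideal.IsPrime.comap _
    have hle : Pc ≤ Sc := fun y hy => hPS ((hPC y).mpr hy)
    have hSc : Sc.comap (algebraMap R C) = PT := by
      refine le_antisymm (fun G hG => ?_) (hPcinter ▸ Ideal.comap_mono hle)
      have h1 : G - MvPolynomial.C (MvPolynomial.eval c G) ∈ PT := by
        rw [hPT, RingHom.mem_ker, map_sub, MvPolynomial.eval_C, sub_self]
      have h2 : MvPolynomial.C (MvPolynomial.eval c G) ∈ Sc.comap (algebraMap R C) := by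
        simpa using sub_mem hG ((hPcinter ▸ Ideal.comap_mono hle : PT ≤ _) h1)
      rw [Ideal.mem_comap, ← MvPolynomial.algebraMap_eq, ← IsScalarTower.algebraMap_apply] at h2
      have h3 : MvPolynomial.eval c G ∈ S.comap (algebraMap V B) := by
        rw [Ideal.mem_comap, IsScalarTower.algebraMap_apply V C B]; exact h2
      rw [hSV, Ideal.mem_bot] at h3
      rw [hPT, RingHom.mem_ker]; exact h3
    have heq : Pc = Sc := by
      rcases hle.lt_or_eq with h | h
      · exact absurd (hPcinter.trans hSc.symm) (Ideal.IsIntegral.comap_lt_comap h).ne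
      · exact h
    refine le_antisymm (fun x hx => ?_) hPS
    obtain ⟨n, hn⟩ := hrx x
    exact ⟨n, ⟨_, hn⟩, rfl, heq ▸ (S.mul_mem_left (r ^ n) hx : (⟨_, hn⟩ : C) ∈ Sc)⟩

end Groth.Agent.ClosedBetween
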