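import Mathlib
import Groth.Agent.ClosedBetween.Valuation

set_option autoImplicit false
set_option backward.isDefEq.respectTransparency false
set_option backward.defeqAttrib.useBackward true
set_option linter.style.haveILetI false

/-!
# Primes maximal over a given prime, between two primes over different primes
-/

universe u

namespace Groth.Agent.ClosedBetween

theorem exists_prime_closed_between {A B : Type u} [CommRing A] [CommRing B] [Algebra A B]
    [Algebra.FiniteType A B] (P0 Q : Ideal B) [P0.IsPrime] [Q.IsPrime] (hle : P0 ≤ Q)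
    (hne : P0.comap (algebraMap A B) ≠ Q.comap (algebraMap A B))
    (hQ : ∀ R : Ideal B, R.IsPrime → Q ≤ R →
      R.comap (algebraMap A B) = Q.comap (algebraMap A B) → R = Q)
    (b : B) (hb : b ∉ P0) :
    ∃ (P : Ideal B) (_ : P.IsPrime), P0 ≤ P ∧ P ≤ Q ∧ b ∉ P ∧
      P.comap (algebraMap A B) = P0.comap (algebraMap A B) ∧
      ∀ R : Ideal B, R.IsPrime → P ≤ R →
        R.comap (algebraMap A B) = P0.comap (algebraMap A B) → R = P := by
  classical
  set p0 := P0.comap (algebraMap A B) with hp0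
  let L := FractionRing (B ⧸ P0)
  let ψ : B →+* L := (algebraMap (B ⧸ P0) L).comp (Ideal.Quotient.mk P0)
  have hψ : RingHom.ker ψ = P0 := by
    ext x
    rw [RingHom.mem_ker, RingHom.comp_apply, map_eq_zero_iff _ (IsFractionRing.injective _ _),
      Ideal.Quotient.eq_zero_iff_mem]
  let S := ψ.range
  let PS : Ideal S := Q.map ψ.rangeRestrict
  haveI : PS.IsPrime := Ideal.map_isPrime_of_surjective ψ.rangeRestrict_surjective
    (by rw [ψ.ker_rangeRestrict, hψ]; exact hle)
  have hPS : ∀ x, ψ.rangeRestrict x ∈ PS ↔ x ∈ Q := fun x => by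
    rw [← Ideal.mem_comap, Ideal.comap_map_of_surjective _ ψ.rangeRestrict_surjective,
      ← RingHom.ker_eq_comap_bot, ψ.ker_rangeRestrict, hψ, sup_eq_left.mpr hle]
  obtain ⟨O, hO⟩ := (LocalSubring.ofPrime S PS).exists_le_valuationSubring
  obtain ⟨hO₁, hO₂⟩ := hO
  have hψO : ∀ x, ψ x ∈ O := fun x => hO₁ (LocalSubring.le_ofPrime S PS ⟨x, rfl⟩)
  have hψQ : ∀ x, (⟨ψ x, hψO x⟩ : O) ∈ IsLocalRing.maximalIdeal O ↔ x ∈ Q := by
    intro x
    rw [IsLocalRing.mem_maximalIdeal, mem_nonunits_iff, ← hPS x,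
      ← IsLocalization.AtPrime.to_map_mem_maximal_iff (LocalSubring.ofPrime S PS).toSubring PS,
      IsLocalRing.mem_maximalIdeal, mem_nonunits_iff, not_iff_not]
    exact ⟨fun h => hO₂.map_nonunit _ h, fun h => h.map (Subring.inclusion hO₁)⟩
  -- the valuation ring of the base
  let K := FractionRing (A ⧸ p0)
  have hι0 : Function.Injective ((algebraMap (B ⧸ P0) L).comp
      (Ideal.quotientMap P0 (algebraMap A B) le_rfl)) := by
    rw [RingHom.coe_comp]
    exact (IsFractionRing.injective _ _).comp Ideal.quotientMap_injective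
  let ι : K →+* L := IsFractionRing.lift hι0
  have hι : ∀ a : A, ι (algebraMap (A ⧸ p0) K (Ideal.Quotient.mk p0 a)) = ψ (algebraMap A B a) :=
    fun a => by rw [IsFractionRing.lift_algebraMap]; rfl
  let V : ValuationSubring K := O.comap ι
  have hAV : ∀ a : A, algebraMap (A ⧸ p0) K (Ideal.Quotient.mk p0 a) ∈ V := fun a => by
    show ι _ ∈ O
    rw [hι]; exact hψO _
  let jA : A →+* V := ((algebraMap (A ⧸ p0) K).comp (Ideal.Quotient.mk p0)).codRestrict V hAV
  letI : Algebra V L := (ι.comp V.subtype).toAlgebra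
  have hjA : ∀ a, algebraMap V L (jA a) = ψ (algebraMap A B a) := hι
  have hjA0 : ∀ a, jA a = 0 ↔ a ∈ p0 := fun a => by
    rw [← Subtype.coe_inj, ← Ideal.Quotient.eq_zero_iff_mem]
    exact map_eq_zero_iff _ (IsFractionRing.injective (A ⧸ p0) K)
  -- the enlarged algebra
  obtain ⟨gens, hgens⟩ := ‹Algebra.FiniteType A B›.out
  let BV : Subalgebra V L := Algebra.adjoin V (ψ '' (gens : Set B))
  haveI : Algebra.FiniteType V BV :=
    (Subalgebra.fg_iff_finiteType BV).mp ⟨gens.image ψ, by rw [Finset.coe_image]⟩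
  have hψBV : ∀ x, ψ x ∈ BV := by
    intro x
    have hx : x ∈ Algebra.adjoin A (gens : Set B) := hgens ▸ Algebra.mem_top
    induction hx using Algebra.adjoin_induction with
    | mem y hy => exact Algebra.subset_adjoin ⟨y, hy, rfl⟩
    | algebraMap a => rw [← hjA]; exact BV.algebraMap_mem _
    | add y z _ _ h1 h2 => rw [map_add]; exact add_mem h1 h2
    | mul y z _ _ h1 h2 => rw [map_mul]; exact mul_mem h1 h2
  let jB : B →+* BV := ψ.codRestrict BV hψBV
  have hjAB : ∀ a, jB (algebraMap A B a) = algebraMap V BV (jA a) := fun a =>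
    Subtype.ext (hjA a).symm
  have hBVO : ∀ y : BV, (y : L) ∈ O := by
    intro y
    obtain ⟨y, hy⟩ := y
    induction hy using Algebra.adjoin_induction with
    | mem y hy => obtain ⟨x, -, rfl⟩ := hy; exact hψO x
    | algebraMap v => exact v.2
    | add y z _ _ h1 h2 => exact add_mem h1 h2
    | mul y z _ _ h1 h2 => exact mul_mem h1 h2
  let jO : BV →+* O := (BV.val.toRingHom).codRestrict O hBVO
  let Q0 := (IsLocalRing.maximalIdeal O).comap jO
  haveI : Q0.IsPrime := Ideal.IsPrime.comap _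
  obtain ⟨Q1, hQ1, hle1⟩ := Ideal.exists_le_maximal Q0 (Ideal.IsPrime.ne_top ‹_›)
  haveI hQ1p : Q1.IsPrime := hQ1.isPrime
  have hVm : ∀ v ∈ IsLocalRing.maximalIdeal V, algebraMap V BV v ∈ Q0 := by
    intro v hv
    rw [IsLocalRing.mem_maximalIdeal, mem_nonunits_iff] at hv
    refine IsLocalRing.mem_maximalIdeal _ |>.mpr fun hu => hv ?_
    obtain ⟨w, hw⟩ := isUnit_iff_exists_inv.mp hu
    have hv0 : ι (v : K) * (w : L) = 1 := congrArg Subtype.val hw
    have hne0 : (v : K) ≠ 0 := fun h0 => by simp [h0] at hv0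
    have hinv : (v : K)⁻¹ ∈ V := by
      show ι _ ∈ O
      rw [map_inv₀, inv_eq_of_mul_eq_one_right hv0]
      exact w.2
    exact isUnit_iff_exists_inv.mpr ⟨⟨_, hinv⟩, Subtype.ext (mul_inv_cancel₀ hne0)⟩
  have hQ1V : Q1.comap (algebraMap V BV) = IsLocalRing.maximalIdeal V :=
    ((IsLocalRing.maximalIdeal.isMaximal V).eq_of_le (Ideal.IsPrime.ne_top (Ideal.IsPrime.comap _))
      fun v hv => hle1 (hVm v hv)).symm
  have hQ1B : Q1.comap jB = Q := by
    have hQle : Q ≤ Q1.comap jB := fun x hx => hle1 ((hψQ x).mpr hx)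
    refine hQ _ (Ideal.IsPrime.comap _) hQle (le_antisymm (fun a ha => ?_) (Ideal.comap_mono hQle))
    rw [Ideal.mem_comap, Ideal.mem_comap, hjAB, ← Ideal.mem_comap, hQ1V] at ha
    have h0 : jB (algebraMap A B a) ∈ Q0 := hjAB a ▸ hVm _ ha
    exact (hψQ _).mp h0
  have hVfield : ¬ IsField V := by
    obtain ⟨a, haQ, ha0⟩ : ∃ a ∈ Q.comap (algebraMap A B), a ∉ p0 := by
      by_contra hcon
      push Not at hcon
      exact hne (le_antisymm (Ideal.comap_mono hle) hcon)
    intro hF
    have h1 : jA a ∈ IsLocalRing.maximalIdeal V := by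
      rw [← hQ1V, Ideal.mem_comap, ← hjAB, ← Ideal.mem_comap, hQ1B]; exact haQ
    rw [IsLocalRing.isField_iff_maximalIdeal_eq.mp hF, Ideal.mem_bot, hjA0] at h1
    exact ha0 h1
  haveI : IsDomain BV := inferInstance
  have hinjV : Function.Injective (algebraMap V BV) := fun v w h =>
    Subtype.ext (ι.injective (congrArg Subtype.val h))
  have hjB0 : jB b ≠ 0 := fun h => hb (hψ.le (congrArg Subtype.val h))
  haveI := hQ1
  obtain ⟨P', hP', hP'Q, hP'V, hbP', hP'max⟩ :=
    exists_prime_between hinjV hVfield Q1 hQ1V (jB b) hjB0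
  have hP'p : ∀ a : A, algebraMap A B a ∈ P'.comap jB ↔ a ∈ p0 := fun a => by
    rw [Ideal.mem_comap, hjAB, ← Ideal.mem_comap, hP'V, Ideal.mem_bot, hjA0]
  refine ⟨P'.comap jB, Ideal.IsPrime.comap _, fun x hx => ?_, hQ1B ▸ Ideal.comap_mono hP'Q, hbP',
    Ideal.ext hP'p, fun R hR hPR hRp => ?_⟩
  · rw [Ideal.mem_comap, show jB x = 0 from Subtype.ext (hψ.ge hx)]
    exact zero_mem _
  -- maximality
  have hker : ∀ x y, jB x = jB y → x - y ∈ R := fun x y h => by
    refine hPR ?_
    rw [Ideal.mem_comap, map_sub, h, sub_self]; exact zero_mem _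
  have hden : ∀ y : BV, ∃ (a : A) (x : B), a ∉ p0 ∧ jB x = jB (algebraMap A B a) * y := by
    intro y
    obtain ⟨y, hy⟩ := y
    induction hy using Algebra.adjoin_induction with
    | mem y hy =>
      obtain ⟨x, -, rfl⟩ := hy
      exact ⟨1, x, fun h => Ideal.IsPrime.ne_top (inferInstance : p0.IsPrime)
        ((Ideal.eq_top_iff_one _).mpr h), Subtype.ext (by simp [jB])⟩
    | algebraMap v =>
      obtain ⟨n, d, hd⟩ := IsLocalization.exists_mk'_eq (nonZeroDivisors (A ⧸ p0)) (v : K)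
      obtain ⟨n, rfl⟩ := Ideal.Quotient.mk_surjective n
      obtain ⟨d', hd'⟩ := Ideal.Quotient.mk_surjective (d : A ⧸ p0)
      refine ⟨d', algebraMap A B n, fun h => nonZeroDivisors.ne_zero d.2
        (hd' ▸ Ideal.Quotient.eq_zero_iff_mem.mpr h), Subtype.ext ?_⟩
      show ψ (algebraMap A B n) = ψ (algebraMap A B d') * ι (v : K)
      rw [← hι, ← hι, hd', ← map_mul, ← hd, IsLocalization.mk'_spec']
    | add y z _ _ h1 h2 =>
      obtain ⟨a, x, ha, hx⟩ := h1
      obtain ⟨a', x', ha', hx'⟩ := h2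
      refine ⟨a * a', algebraMap A B a' * x + algebraMap A B a * x', fun h =>
        (Ideal.IsPrime.mem_or_mem inferInstance h).elim ha ha', Subtype.ext ?_⟩
      have e1 := congrArg Subtype.val hx
      have e2 := congrArg Subtype.val hx'
      simp only [map_mul, map_add, Subalgebra.coe_add, Subalgebra.coe_mul] at e1 e2 ⊢
      rw [e1, e2]; ring
    | mul y z _ _ h1 h2 =>
      obtain ⟨a, x, ha, hx⟩ := h1
      obtain ⟨a', x', ha', hx'⟩ := h2
      refine ⟨a * a', x * x', fun h =>
        (Ideal.IsPrime.mem_or_mem inferInstance h).elim ha ha', Subtype.ext ?_⟩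
      have e1 := congrArg Subtype.val hx
      have e2 := congrArg Subtype.val hx'
      simp only [map_mul, Subalgebra.coe_mul] at e1 e2 ⊢
      rw [e1, e2]; ring
  have hRA : ∀ a, a ∉ p0 → algebraMap A B a ∉ R := fun a ha h => ha (hRp.le h)
  have hcancel : ∀ (y : BV) a x, a ∉ p0 → jB x = jB (algebraMap A B a) * y → x ∈ R →
      ∀ a' x', a' ∉ p0 → jB x' = jB (algebraMap A B a') * y → x' ∈ R := by
    intro y a x ha hx hxR a' x' ha' hx'
    have h1 : algebraMap A B a * x' - algebraMap A B a' * x ∈ R :=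
      hker _ _ (by rw [map_mul, map_mul, hx, hx']; ring)
    have h2 : algebraMap A B a * x' ∈ R := by
      simpa using add_mem h1 (R.mul_mem_left (algebraMap A B a') hxR)
    exact (hR.mem_or_mem h2).resolve_left (hRA a ha)
  let R' : Ideal BV :=
    { carrier := {y | ∀ a x, a ∉ p0 → jB x = jB (algebraMap A B a) * y → x ∈ R}
      zero_mem' := fun a x _ h => by
        simpa using hker x 0 (by rw [h, mul_zero, map_zero])
      add_mem' := fun {y z} hy hz a x ha h => by
        obtain ⟨a1, x1, ha1, h1⟩ := hden y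
        obtain ⟨a2, x2, ha2, h2⟩ := hden z
        refine hcancel (y + z) (a1 * a2) (algebraMap A B a2 * x1 + algebraMap A B a1 * x2)
          (fun h => (Ideal.IsPrime.mem_or_mem inferInstance h).elim ha1 ha2)
          (by simp only [map_mul, map_add, h1, h2]; ring)
          (add_mem (R.mul_mem_left _ (hy a1 x1 ha1 h1)) (R.mul_mem_left _ (hz a2 x2 ha2 h2)))
          a x ha h
      smul_mem' := fun z y hy a x ha h => by
        obtain ⟨a1, x1, ha1, h1⟩ := hden y
        obtain ⟨a2, x2, ha2, h2⟩ := hden z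
        refine hcancel (z * y) (a2 * a1) (x2 * x1)
          (fun h => (Ideal.IsPrime.mem_or_mem inferInstance h).elim ha2 ha1)
          (by simp only [map_mul, h1, h2]; ring)
          (R.mul_mem_left _ (hy a1 x1 ha1 h1)) a x ha h }
  have h1p : (1 : A) ∉ p0 := fun h => Ideal.IsPrime.ne_top (inferInstance : p0.IsPrime)
    ((Ideal.eq_top_iff_one _).mpr h)
  have hR'B : ∀ x, jB x ∈ R' ↔ x ∈ R := fun x => by
    refine ⟨fun h => h 1 x h1p (by simp), fun hx a x' ha h => ?_⟩
    exact hcancel (jB x) 1 x h1p (by simp) hx a x' ha h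
  have hR'prime : R'.IsPrime := by
    refine ⟨fun h => hR.ne_top ((Ideal.eq_top_iff_one _).mpr ((hR'B 1).mp (h ▸ Submodule.mem_top))),
      fun {y z} h => ?_⟩
    obtain ⟨a1, x1, ha1, h1⟩ := hden y
    obtain ⟨a2, x2, ha2, h2⟩ := hden z
    have h3 := h (a1 * a2) (x1 * x2) (fun h => (Ideal.IsPrime.mem_or_mem inferInstance h).elim ha1 ha2)
      (by simp only [map_mul, h1, h2]; ring)
    rcases hR.mem_or_mem h3 with h4 | h4
    · exact Or.inl fun a x ha hx => hcancel y a1 x1 ha1 h1 h4 a x ha hx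
    · exact Or.inr fun a x ha hx => hcancel z a2 x2 ha2 h2 h4 a x ha hx
  have hPR' : P' ≤ R' := fun y hy a x _ hx => hPR (by
    rw [Ideal.mem_comap, hx]; exact Ideal.mul_mem_left _ _ hy)
  have hR'V : R'.comap (algebraMap V BV) = ⊥ := by
    rw [eq_bot_iff]
    intro v hv
    obtain ⟨a, x, ha, hx⟩ := hden (algebraMap V BV v)
    obtain ⟨n, d, hd⟩ := IsLocalization.exists_mk'_eq (nonZeroDivisors (A ⧸ p0)) (v : K)
    obtain ⟨n, rfl⟩ := Ideal.Quotient.mk_surjective n
    obtain ⟨d', hd'⟩ := Ideal.Quotient.mk_surjective (d : A ⧸ p0)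
    have hd0 : d' ∉ p0 := fun h => nonZeroDivisors.ne_zero d.2
      (hd' ▸ Ideal.Quotient.eq_zero_iff_mem.mpr h)
    have hn : algebraMap A B n ∈ R := hv d' _ hd0 (Subtype.ext (by
      show ψ (algebraMap A B n) = ψ (algebraMap A B d') * ι (v : K)
      rw [← hι, ← hι, hd', ← map_mul, ← hd, IsLocalization.mk'_spec']))
    have hn0 : Ideal.Quotient.mk p0 n = 0 := Ideal.Quotient.eq_zero_iff_mem.mpr (hRp.le hn)
    rw [Ideal.mem_bot]
    refine Subtype.ext ?_
    rw [ZeroMemClass.coe_zero, ← hd, hn0, IsLocalization.mk'_zero]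
  have hR'P' := hP'max R' hR'prime hPR' hR'V
  exact Ideal.ext fun x => by rw [Ideal.mem_comap, ← hR'P', hR'B]

end Groth.Agent.ClosedBetween
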