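import Mathlib
import Groth.Agent.ClosedBetween.Ring

set_option autoImplicit false
set_option backward.isDefEq.respectTransparency false
set_option backward.defeqAttrib.useBackward true
set_option linter.style.haveILetI false

/-!
# Closed points of the generic fibre between two points of different fibres are dense
-/

universe u

open CategoryTheory AlgebraicGeometry TopologicalSpace

namespace Groth.Agent.ClosedBetween

theorem dense_closed_between {X S : Scheme.{u}} (f : X ⟶ S) [LocallyOfFiniteType f] (x x' : X)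
    (hsp : x ⤳ x') (hne : f x ≠ f x')
    (hcl : IsClosed (Subtype.val ⁻¹' {x'} : Set ↑(f ⁻¹' {f x'}))) :
    Dense (Subtype.val ⁻¹' {x₁ : ↑X | f x₁ = f x ∧
        IsClosed (Subtype.val ⁻¹' {x₁} : Set ↑(f ⁻¹' {f x})) ∧ x ⤳ x₁ ∧ x₁ ⤳ x'} :
      Set ↑(closure {x} ∩ f ⁻¹' {f x})) := by
  rw [dense_iff_inter_open]
  intro O hO hOne
  obtain ⟨W, hW, rfl⟩ := isOpen_induced_iff.mp hO
  obtain ⟨⟨z, hz, hzf⟩, hzW⟩ := hOne
  have hxW : x ∈ W := (specializes_iff_mem_closure.mpr hz).mem_open hW hzW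
  obtain ⟨_, ⟨U, hU, rfl⟩, hxU, -⟩ :=
    S.isBasis_affineOpens.exists_subset_of_mem_open (Set.mem_univ (f x')) isOpen_univ
  obtain ⟨_, ⟨V, hV, rfl⟩, hxV, hVU⟩ :=
    X.isBasis_affineOpens.exists_subset_of_mem_open (a := x') hxU (f ⁻¹ᵁ U).2
  have hVU : V ≤ f ⁻¹ᵁ U := hVU
  set A := Γ(S, U)
  set B := Γ(X, V)
  letI : Algebra A B := (f.appLE U V hVU).hom.toAlgebra
  haveI : Algebra.FiniteType A B := f.finiteType_appLE hU hV hVU
  let π : PrimeSpectrum B → X := fun P => hV.fromSpec P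
  have hπ : Topology.IsInducing π := hV.fromSpec.isOpenEmbedding.isInducing
  have hπr : ∀ y ∈ V, ∃ P, π P = y := fun y hy => by
    have : y ∈ Set.range hV.fromSpec := by rw [hV.range_fromSpec]; exact hy
    exact this
  have hfπ : ∀ P : PrimeSpectrum B,
      f (π P) = hU.fromSpec (PrimeSpectrum.comap (algebraMap A B) P) := fun P => by
    have h := congrArg (fun φ : Spec Γ(X, V) ⟶ S => φ P) (hU.SpecMap_appLE_fromSpec f hV hVU)
    exact h.symm
  have hspec : ∀ P Q : PrimeSpectrum B, π P ⤳ π Q ↔ P.asIdeal ≤ Q.asIdeal := fun P Q => by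
    rw [hπ.specializes_iff, ← PrimeSpectrum.le_iff_specializes]; rfl
  have hfeq : ∀ P Q : PrimeSpectrum B, f (π P) = f (π Q) ↔
      P.asIdeal.comap (algebraMap A B) = Q.asIdeal.comap (algebraMap A B) := fun P Q => by
    rw [hfπ, hfπ]
    exact ⟨fun h => congrArg PrimeSpectrum.asIdeal (hU.fromSpec.isOpenEmbedding.injective h),
      fun h => congrArg _ (PrimeSpectrum.ext h)⟩
  obtain ⟨Q, hQ⟩ := hπr x' hxV
  obtain ⟨P₀, hP₀⟩ := hπr x (hsp.mem_open V.2 hxV)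
  have hπW : IsOpen (π ⁻¹' W) := hW.preimage hπ.continuous
  obtain ⟨_, ⟨b, rfl⟩, hbP, hbW⟩ :=
    PrimeSpectrum.isTopologicalBasis_basic_opens.exists_subset_of_mem_open
      (show P₀ ∈ π ⁻¹' W by show π P₀ ∈ W; rw [hP₀]; exact hxW) hπW
  obtain ⟨P, hPp, hP₀P, hPQ, hbP', hPA, hPmax⟩ := exists_prime_closed_between (A := A)
    P₀.asIdeal Q.asIdeal ((hspec P₀ Q).mp (by rw [hP₀, hQ]; exact hsp))
    (fun h => hne (by rw [← hP₀, ← hQ]; exact (hfeq P₀ Q).mpr h))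
    (fun R hR hQR hRA => by
      have h1 : π Q ⤳ π ⟨R, hR⟩ := (hspec Q ⟨R, hR⟩).mpr hQR
      have hfR : f (π ⟨R, hR⟩) = f x' := by rw [← hQ]; exact (hfeq ⟨R, hR⟩ Q).mpr hRA
      obtain ⟨C, hC, hCeq⟩ := isClosed_induced_iff.mp hcl
      have hx'C : π Q ∈ C := by
        have : (⟨x', rfl⟩ : ↑(f ⁻¹' {f x'})) ∈ Subtype.val ⁻¹' C := hCeq ▸ rfl
        rw [hQ]; exact this
      have h2 : (⟨π ⟨R, hR⟩, hfR⟩ : ↑(f ⁻¹' {f x'})) ∈ Subtype.val ⁻¹' C := h1.mem_closed hC hx'C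
      rw [hCeq] at h2
      have h3 : π ⟨R, hR⟩ = π Q := (Set.mem_singleton_iff.mp h2).trans hQ.symm
      exact congrArg PrimeSpectrum.asIdeal (hV.fromSpec.isOpenEmbedding.injective h3))
    b hbP
  set x₁ := π ⟨P, hPp⟩
  have hfx₁ : f x₁ = f x := by rw [← hP₀]; exact (hfeq ⟨P, hPp⟩ P₀).mpr hPA
  have hxx₁ : x ⤳ x₁ := by rw [← hP₀]; exact (hspec P₀ ⟨P, hPp⟩).mpr hP₀P
  have hx₁x' : x₁ ⤳ x' := by rw [← hQ]; exact (hspec ⟨P, hPp⟩ Q).mpr hPQ
  refine ⟨⟨x₁, hxx₁.mem_closure, hfx₁⟩, hbW hbP', hfx₁, ?_, hxx₁, hx₁x'⟩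
  -- closed in the fibre
  haveI : JacobsonSpace ↑(f ⁻¹' {f x}) :=
    JacobsonSpace.of_isOpenEmbedding (f.fiberHomeo (f x)).symm.isOpenEmbedding
  have heq : (Subtype.val ⁻¹' {x₁} : Set ↑(f ⁻¹' {f x})) = {⟨x₁, hfx₁⟩} := by
    ext y; simp [Subtype.ext_iff]
  rw [heq]
  refine isClosed_singleton_of_isLocallyClosed_singleton
    ⟨Subtype.val ⁻¹' (V : Set X), Subtype.val ⁻¹' closure {x₁}, V.2.preimage continuous_subtype_val,
      isClosed_closure.preimage continuous_subtype_val, ?_⟩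
  ext ⟨y, hy⟩
  simp only [Set.mem_singleton_iff, Set.mem_inter_iff, Set.mem_preimage, Subtype.mk.injEq,
    SetLike.mem_coe]
  constructor
  · rintro rfl
    exact ⟨hx₁x'.mem_open V.2 hxV, subset_closure rfl⟩
  · rintro ⟨hyV, hyc⟩
    obtain ⟨R, rfl⟩ := hπr y hyV
    have h1 : P ≤ R.asIdeal := (hspec ⟨P, hPp⟩ R).mp (specializes_iff_mem_closure.mpr hyc)
    have h2 : f (π R) = f (π P₀) := by rw [hP₀]; exact hy
    have h3 := hPmax R.asIdeal R.2 h1 ((hfeq R P₀).mp h2)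
    exact congrArg π (PrimeSpectrum.ext h3)

end Groth.Agent.ClosedBetween
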